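import Cfsg.Agent.H237.RC.SN
import Cfsg.Agent.H188.RC.OkSS

/-!
# S3510, triality type (ii), box MIX (helper202)

`g` semisimple, `k` unipotent commuting exact automorphisms of the Okubo product: some `v` fixed by `g` with `v ⋄ v = 0` and
`polar v (k v) ≠ 0`.
-/

set_option autoImplicit false

namespace Cfsg.Agent.H202.Tri

open Module QuadraticMap Cfsg.Agent.LieClassical.OrthCore Cfsg.Agent.LieClassical.OrthTrans
  Cfsg.Agent.LieClassical.OrthSimple Cfsg.Agent.ClassicalGeometry.OrthAut1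
  Cfsg.Agent.ClassicalGeometry.OrthSemi Cfsg.Agent.H198.Classes
  Cfsg.Agent.LieClassical.QuadForms Cfsg.Agent.H198.ClassesPlus
  Cfsg.Agent.ClassicalGeometry.TrialityOct Cfsg.Agent.ClassicalGeometry.Triality
  Cfsg.Agent.ClassicalGeometry.TrialitySpaces Cfsg.Agent.H198.TriBase Cfsg.Agent.H198.TriAut
  Cfsg.Agent.H206.Balance Cfsg.Agent.H198.BalVar Cfsg.Agent.H198.TriDia Cfsg.Agent.H198.TriSpec
  Cfsg.Agent.H198.TriPhi Cfsg.Agent.H442.RC.TriB Cfsg.Agent.H989.OkuboRoot Matrix

universe u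

/-! ### Matrices -/

section mat

variable {E : Type*} [Field E]

/-- a kernel of dimension at least two -/
theorem two_le_ker {V : Matrix (Fin 3) (Fin 3) E} (hV : V * V = 0) : 2 ≤ finrank E (LinearMap.ker V.mulVecLin) := by
  have h1 : LinearMap.range V.mulVecLin ≤ LinearMap.ker V.mulVecLin := by
    rintro _ ⟨x, rfl⟩
    rw [LinearMap.mem_ker, Matrix.mulVecLin_apply, Matrix.mulVecLin_apply, Matrix.mulVec_mulVec, hV, Matrix.zero_mulVec]
  have h2 := LinearMap.finrank_range_add_finrank_ker V.mulVecLin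
  have h3 := Submodule.finrank_mono h1
  rw [finrank_fintype_fun_eq_card, Fintype.card_fin] at h2
  omega

/-- normal form of a pair of opposite root elements -/
theorem exists_nf {V W : Matrix (Fin 3) (Fin 3) E} (hV : V * V = 0) (hW : W * W = 0) (hVW : V * W * V = -V)
    (hV0 : V ≠ 0) : ∃ S S' : Matrix (Fin 3) (Fin 3) E, S * S' = 1 ∧ S' * S = 1 ∧
      S' * V * S = !![0, -1, 0; 0, 0, 0; 0, 0, 0] ∧ S' * W * S = !![0, 0, 0; 1, 0, 0; 0, 0, 0] := by
  classical
  obtain ⟨u, hu⟩ : ∃ u : Fin 3 → E, V *ᵥ u ≠ 0 := by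
    by_contra hcon
    push Not at hcon
    apply hV0
    apply Matrix.ext_of_mulVec_single
    intro j
    rw [hcon, Matrix.zero_mulVec]
  set a := V *ᵥ u with ha
  set b := W *ᵥ a with hb
  have hVa : V *ᵥ a = 0 := by rw [ha, Matrix.mulVec_mulVec, hV, Matrix.zero_mulVec]
  have hVb : V *ᵥ b = -a := by
    rw [hb, ha, Matrix.mulVec_mulVec, Matrix.mulVec_mulVec, hVW, Matrix.neg_mulVec]
  have hWb : W *ᵥ b = 0 := by rw [hb, Matrix.mulVec_mulVec, hW, Matrix.zero_mulVec]
  obtain ⟨c, hc, hc0⟩ : ∃ c ∈ LinearMap.ker V.mulVecLin ⊓ LinearMap.ker W.mulVecLin, c ≠ 0 := by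
    apply Submodule.exists_mem_ne_zero_of_ne_bot
    intro hbot
    have h1 := Submodule.finrank_sup_add_finrank_inf_eq (LinearMap.ker V.mulVecLin) (LinearMap.ker W.mulVecLin)
    have h2 := Submodule.finrank_le (LinearMap.ker V.mulVecLin ⊔ LinearMap.ker W.mulVecLin)
    rw [hbot, finrank_bot] at h1
    rw [finrank_fintype_fun_eq_card, Fintype.card_fin] at h2
    have h3 := two_le_ker hV
    have h4 := two_le_ker hW
    omega
  have hVc : V *ᵥ c = 0 := hc.1
  have hWc : W *ᵥ c = 0 := hc.2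
  have hb0 : b ≠ 0 := by
    intro h
    rw [h, Matrix.mulVec_zero] at hVb
    exact hu (neg_eq_zero.1 hVb.symm)
  let S : Matrix (Fin 3) (Fin 3) E := (Matrix.of ![a, b, c])ᵀ
  have hS : ∀ x : Fin 3 → E, S *ᵥ x = x 0 • a + x 1 • b + x 2 • c := by
    intro x
    funext j
    simp [S, Matrix.mulVec, dotProduct, Fin.sum_univ_three, mul_comm]
  have hinj : Function.Injective S.mulVec := by
    have : Function.Injective S.mulVecLin := by
      rw [injective_iff_map_eq_zero]
      intro x hx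
      rw [Matrix.mulVecLin_apply, hS] at hx
      have e1 := congrArg (V *ᵥ ·) hx
      have e2 := congrArg (W *ᵥ ·) hx
      simp only [Matrix.mulVec_add, Matrix.mulVec_smul, hVa, hVb, hVc, hWb, hWc, Matrix.mulVec_zero, smul_zero,
        zero_add, add_zero] at e1 e2
      have x1 : x 1 = 0 := by
        rw [smul_neg, neg_eq_zero] at e1
        exact (smul_eq_zero.1 e1).resolve_right hu
      have x0 : x 0 = 0 := (smul_eq_zero.1 e2).resolve_right hb0
      rw [x0, x1, zero_smul, zero_smul, zero_add, zero_add] at hx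
      have x2 : x 2 = 0 := (smul_eq_zero.1 hx).resolve_right hc0
      funext j
      fin_cases j
      · exact x0
      · exact x1
      · exact x2
    exact this
  have hunit : IsUnit S := Matrix.mulVec_injective_iff_isUnit.1 hinj
  obtain ⟨U, hU⟩ := hunit
  have hSS : S * ((U⁻¹ : (Matrix (Fin 3) (Fin 3) E)ˣ) : Matrix (Fin 3) (Fin 3) E) = 1 := by
    rw [← hU, ← Units.val_mul, mul_inv_cancel, Units.val_one]
  have hSS' : ((U⁻¹ : (Matrix (Fin 3) (Fin 3) E)ˣ) : Matrix (Fin 3) (Fin 3) E) * S = 1 := by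
    rw [← hU, ← Units.val_mul, inv_mul_cancel, Units.val_one]
  refine ⟨S, ((U⁻¹ : (Matrix (Fin 3) (Fin 3) E)ˣ) : Matrix (Fin 3) (Fin 3) E), hSS, hSS', ?_, ?_⟩
  · have h1 : V * S = S * !![0, -1, 0; 0, 0, 0; 0, 0, 0] := by
      apply Matrix.ext_of_mulVec_single
      intro j
      rw [← Matrix.mulVec_mulVec, ← Matrix.mulVec_mulVec, hS, hS, Matrix.mulVec_add, Matrix.mulVec_add,
        Matrix.mulVec_smul, Matrix.mulVec_smul, Matrix.mulVec_smul, hVa, hVb, hVc]
      fin_cases j <;> simp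
    rw [Matrix.mul_assoc, h1, ← Matrix.mul_assoc, hSS', Matrix.one_mul]
  · have h1 : W * S = S * !![0, 0, 0; 1, 0, 0; 0, 0, 0] := by
      apply Matrix.ext_of_mulVec_single
      intro j
      rw [← Matrix.mulVec_mulVec, ← Matrix.mulVec_mulVec, hS, hS, Matrix.mulVec_add, Matrix.mulVec_add,
        Matrix.mulVec_smul, Matrix.mulVec_smul, Matrix.mulVec_smul, ← hb, hWb, hWc]
      fin_cases j <;> simp
    rw [Matrix.mul_assoc, h1, ← Matrix.mul_assoc, hSS', Matrix.one_mul]

/-- the core computation in coordinates -/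
theorem core {P R R' : Matrix (Fin 3) (Fin 3) E} {p : ℕ} (hp : p.Prime) (hpE : (p : E) = 0) {ν : E}
    (h1 : P * !![0, -1, 0; 0, 0, 0; 0, 0, 0] = !![0, -1, 0; 0, 0, 0; 0, 0, 0] * P)
    (h2 : P * !![0, 0, 0; 1, 0, 0; 0, 0, 0] = !![0, 0, 0; 1, 0, 0; 0, 0, 0] * P)
    (hns : ¬ ∃ c : E, P = c • (1 : Matrix (Fin 3) (Fin 3) E)) (hPR : P * R = R * P) (hR : R * R' = 1)
    (hRp : R ^ p = ν • (1 : Matrix (Fin 3) (Fin 3) E))
    (t1 : trace (!![0, -1, 0; 0, 0, 0; 0, 0, 0] * (R * !![0, -1, 0; 0, 0, 0; 0, 0, 0] * R')) = 0)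
    (t2 : trace (!![0, 0, 0; 1, 0, 0; 0, 0, 0] * (R * !![0, 0, 0; 1, 0, 0; 0, 0, 0] * R')) = 0) :
    ∃ c : E, R = c • (1 : Matrix (Fin 3) (Fin 3) E) := by
  have hPR' : P * R' = R' * P := by
    have hR2 : R' * R = 1 := mul_eq_one_comm.1 hR
    calc P * R' = R' * R * (P * R') := by rw [hR2, Matrix.one_mul]
      _ = R' * (P * R) * R' := by rw [hPR]; simp only [Matrix.mul_assoc]
      _ = R' * P := by rw [Matrix.mul_assoc, Matrix.mul_assoc, hR, Matrix.mul_one]
  have e1 := fun a b => congrFun (congrFun h1 a) b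
  have e2 := fun a b => congrFun (congrFun h2 a) b
  have p10 : P 1 0 = 0 := by simpa [Matrix.mul_apply, Fin.sum_univ_three] using e1 0 0
  have p12 : P 1 2 = 0 := by simpa [Matrix.mul_apply, Fin.sum_univ_three] using e1 0 2
  have p20 : P 2 0 = 0 := by simpa [Matrix.mul_apply, Fin.sum_univ_three] using e1 2 1
  have p01 : P 0 1 = 0 := by simpa [Matrix.mul_apply, Fin.sum_univ_three] using e2 0 0
  have p02 : P 0 2 = 0 := by simpa [Matrix.mul_apply, Fin.sum_univ_three] using (e2 1 2).symm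
  have p21 : P 2 1 = 0 := by simpa [Matrix.mul_apply, Fin.sum_univ_three] using e2 2 0
  have p11 : P 0 0 = P 1 1 := by simpa [Matrix.mul_apply, Fin.sum_univ_three] using e1 0 1
  have hxy : P 0 0 ≠ P 2 2 := by
    intro h
    apply hns
    refine ⟨P 0 0, ?_⟩
    ext a b
    fin_cases a <;> fin_cases b <;> simp [p10, p12, p20, p01, p02, p21, ← p11, ← h]
  have hd : P 0 0 - P 2 2 ≠ 0 := sub_ne_zero.2 hxy
  have blk : ∀ {X : Matrix (Fin 3) (Fin 3) E}, P * X = X * P → X 0 2 = 0 ∧ X 1 2 = 0 ∧ X 2 0 = 0 ∧ X 2 1 = 0 := by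
    intro X hX
    have e3 := fun a b => congrFun (congrFun hX a) b
    have a1 := e3 0 2
    have a2 := e3 1 2
    have a3 := e3 2 0
    have a4 := e3 2 1
    simp only [Matrix.mul_apply, Fin.sum_univ_three, p10, p12, p20, p01, p02, p21, zero_mul, mul_zero, zero_add,
      add_zero] at a1 a2 a3 a4
    refine ⟨?_, ?_, ?_, ?_⟩ <;> apply (mul_eq_zero.1 _).resolve_left hd
    · linear_combination a1
    · rw [p11] at *
      linear_combination a2
    · linear_combination -a3
    · rw [p11] at *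
      linear_combination -a4
  obtain ⟨r02, r12, r20, r21⟩ := blk hPR
  obtain ⟨s02, s12, s20, s21⟩ := blk hPR'
  have e4 := fun a b => congrFun (congrFun hR a) b
  have b00 := e4 0 0
  have b01 := e4 0 1
  have b10 := e4 1 0
  have b11 := e4 1 1
  simp [Matrix.mul_apply, Fin.sum_univ_three, r02, r12, r20, r21, s02, s12, s20, s21] at b00 b01 b10 b11
  rw [trace_fin_three] at t1 t2
  simp [Matrix.mul_apply, Fin.sum_univ_three] at t1 t2
  have r10 : R 1 0 = 0 := by
    rcases t1 with h | h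
    · exact h
    · rw [h, mul_zero, add_zero] at b00
      rw [h, mul_zero, add_zero] at b10
      exact (mul_eq_zero.1 b10).resolve_right fun h0 => by rw [h0, mul_zero] at b00; exact zero_ne_one b00
  have r01 : R 0 1 = 0 := by
    rcases t2 with h | h
    · exact h
    · rw [h, mul_zero, zero_add] at b01
      rw [h, mul_zero, zero_add] at b11
      exact (mul_eq_zero.1 b01).resolve_right fun h0 => by rw [h0, mul_zero] at b11; exact zero_ne_one b11
  have hRd : R = Matrix.diagonal ![R 0 0, R 1 1, R 2 2] := by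
    ext a b
    fin_cases a <;> fin_cases b <;> simp [r10, r01, r02, r12, r20, r21]
  have hch : CharP E p := by
    obtain ⟨q, hq⟩ := CharP.exists E
    have h3 := (CharP.cast_eq_zero_iff E q p).1 hpE
    rcases (Nat.dvd_prime hp).1 h3 with h4 | h4
    · exfalso
      rw [h4] at hq
      exact CharP.ringChar_ne_one (R := E) ((CharP.eq E hq (ringChar.charP E)).symm ▸ rfl)
    · rw [h4] at hq; exact hq
  have hpf : Fact p.Prime := ⟨hp⟩
  rw [hRd, Matrix.diagonal_pow] at hRp
  have c0 := congrFun (congrFun hRp 0) 0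
  have c1 := congrFun (congrFun hRp 1) 1
  have c2 := congrFun (congrFun hRp 2) 2
  simp at c0 c1 c2
  have key : ∀ x y : E, x ^ p = ν → y ^ p = ν → x = y := by
    intro x y hx hy
    have h3 : (x - y) ^ p = 0 := by rw [sub_pow_char, hx, hy, sub_self]
    exact sub_eq_zero.1 (pow_eq_zero_iff hp.ne_zero |>.1 h3)
  refine ⟨R 0 0, ?_⟩
  rw [hRd]
  ext a b
  fin_cases a <;> fin_cases b <;> simp [key _ _ c1 c0, key _ _ c2 c0]

end mat

/-! ### The Okubo side -/

section okubo

variable {F : Type u} [Field F] {E : Type*} [Field E] {i : F →+* E} {w : E}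

/-- `Φ (g z) = P Φ(z) P'` -/
def IsC (i : F →+* E) (w : E) (g : V8 F ≃ₗ[F] V8 F) (P P' : Matrix (Fin 3) (Fin 3) E) : Prop :=
  P * P' = 1 ∧ P' * P = 1 ∧ ∀ z, Phi i w (g z) = P * Phi i w z * P'

theorem IsC.pow {g : V8 F ≃ₗ[F] V8 F} {P P' : Matrix (Fin 3) (Fin 3) E} (h : IsC i w g P P') (n : ℕ) :
    IsC i w (g ^ n) (P ^ n) (P' ^ n) := by
  induction n with
  | zero =>
    rw [pow_zero, pow_zero, pow_zero]
    exact ⟨by rw [Matrix.mul_one], by rw [Matrix.mul_one], fun z => by rw [Matrix.one_mul, Matrix.mul_one]; rfl⟩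
  | succ n ih =>
    refine ⟨?_, ?_, fun z => ?_⟩
    · rw [pow_succ, pow_succ' P', Matrix.mul_assoc, ← Matrix.mul_assoc P, h.1, Matrix.one_mul, ih.1]
    · rw [pow_succ' P, pow_succ P', Matrix.mul_assoc, ← Matrix.mul_assoc P', h.2.1, Matrix.one_mul, ih.2.1]
    · rw [pow_succ g]
      change Phi i w ((g ^ n) (g z)) = _
      rw [ih.2.2, h.2.2, pow_succ, pow_succ']
      simp only [Matrix.mul_assoc]

theorem IsC.comm {g : V8 F ≃ₗ[F] V8 F} {P P' : Matrix (Fin 3) (Fin 3) E} (h : IsC i w g P P') {v : V8 F}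
    (hv : g v = v) : P * Phi i w v = Phi i w v * P := by
  have h1 := h.2.2 v
  rw [hv] at h1
  calc P * Phi i w v = P * Phi i w v * (P' * P) := by rw [h.2.1, Matrix.mul_one]
    _ = P * Phi i w v * P' * P := by rw [Matrix.mul_assoc (P * Phi i w v)]
    _ = Phi i w v * P := by rw [← h1]

theorem IsC.scalar_of_one (hw : w ^ 2 + w + 1 = 0) (h3 : (3 : E) ≠ 0) {g : V8 F ≃ₗ[F] V8 F}
    {P P' : Matrix (Fin 3) (Fin 3) E} (h : IsC i w g P P') (hg : g = 1) :
    ∃ c : E, P = c • (1 : Matrix (Fin 3) (Fin 3) E) :=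
  scalar_of_comm i hw h3 fun z => h.comm (by rw [hg]; rfl)

theorem IsC.one_of_scalar (hw : w ^ 2 + w + 1 = 0) (h3 : (3 : E) ≠ 0) {g : V8 F ≃ₗ[F] V8 F}
    {P P' : Matrix (Fin 3) (Fin 3) E} (h : IsC i w g P P') (hs : ∃ c : E, P = c • (1 : Matrix (Fin 3) (Fin 3) E)) :
    g = 1 := by
  obtain ⟨c, hc⟩ := hs
  apply LinearEquiv.ext
  intro z
  apply Phi_injective i hw h3
  rw [h.2.2]
  have h1 : P * Phi i w z = Phi i w z * P := by rw [hc, smul_mul_assoc, Matrix.one_mul, mul_smul_comm, Matrix.mul_one]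
  rw [h1, Matrix.mul_assoc, h.1, Matrix.mul_one]
  rfl

/-- commuting automorphisms, one of them of order `p ≠ 3`, have commuting matrices -/
theorem IsC.commute (hw : w ^ 2 + w + 1 = 0) (h3 : (3 : E) ≠ 0) {g k : V8 F ≃ₗ[F] V8 F}
    {P P' R R' : Matrix (Fin 3) (Fin 3) E} (hP : IsC i w g P P') (hR : IsC i w k R R') (hc : k * g = g * k) {p : ℕ}
    (hp : p.Coprime 3) (hkp : k ^ p = 1) : P * R = R * P := by
  have h1 : ∀ z, (P' * R' * P * R) * Phi i w z = Phi i w z * (P' * R' * P * R) := by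
    intro z
    have h2 : Phi i w (k (g z)) = Phi i w (g (k z)) := by
      have := congrArg (fun f : V8 F ≃ₗ[F] V8 F => f z) hc
      exact congrArg _ this
    rw [hP.2.2, hR.2.2, hR.2.2, hP.2.2] at h2
    -- R P X P' R' = P R X R' P'
    have h4 : P' * R' * (P * (R * Phi i w z * R') * P') * (P * R) = P' * R' * (R * (P * Phi i w z * P') * R') * (P * R) := by
      rw [h2]
    have e1 : P' * R' * (P * (R * Phi i w z * R') * P') * (P * R) = P' * R' * P * R * Phi i w z := by
      calc P' * R' * (P * (R * Phi i w z * R') * P') * (P * R)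
          = P' * R' * P * R * Phi i w z * (R' * (P' * P) * R) := by simp only [Matrix.mul_assoc]
        _ = _ := by rw [hP.2.1, Matrix.mul_one, hR.2.1, Matrix.mul_one]
    have e2 : P' * R' * (R * (P * Phi i w z * P') * R') * (P * R) = Phi i w z * (P' * R' * P * R) := by
      calc P' * R' * (R * (P * Phi i w z * P') * R') * (P * R)
          = P' * (R' * R) * P * Phi i w z * (P' * R' * P * R) := by simp only [Matrix.mul_assoc]
        _ = _ := by rw [hR.2.1, Matrix.mul_one, hP.2.1, Matrix.one_mul]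
    rw [← e1, h4, e2]
  obtain ⟨l, hl⟩ := scalar_of_comm i hw h3 h1
  have h5 : P * R = l • (R * P) := by
    calc P * R = R * P * (P' * R' * P * R) := by
          have : R * P * (P' * R' * P * R) = R * (P * P') * R' * (P * R) := by simp only [Matrix.mul_assoc]
          rw [this, hP.1, Matrix.mul_one, hR.1, Matrix.one_mul]
      _ = l • (R * P) := by rw [hl, mul_smul_comm, Matrix.mul_one]
  -- determinants
  have hdP : P.det ≠ 0 := fun h0 => by
    have := congrArg Matrix.det hP.1
    rw [Matrix.det_mul, h0, zero_mul, Matrix.det_one] at this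
    exact zero_ne_one this
  have hdR : R.det ≠ 0 := fun h0 => by
    have := congrArg Matrix.det hR.1
    rw [Matrix.det_mul, h0, zero_mul, Matrix.det_one] at this
    exact zero_ne_one this
  have hl3 : l ^ 3 = 1 := by
    have h6 := congrArg Matrix.det h5
    rw [Matrix.det_mul, Matrix.det_smul, Matrix.det_mul, Fintype.card_fin] at h6
    have h7 : (l ^ 3 - 1) * (R.det * P.det) = 0 := by linear_combination -h6
    exact sub_eq_zero.1 ((mul_eq_zero.1 h7).resolve_right (mul_ne_zero hdR hdP))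
  have hlp : l ^ p = 1 := by
    have h6 : ∀ n : ℕ, P * R ^ n = l ^ n • (R ^ n * P) := by
      intro n
      induction n with
      | zero => rw [pow_zero, pow_zero, one_smul, Matrix.mul_one, Matrix.one_mul]
      | succ n ih =>
        rw [pow_succ, ← Matrix.mul_assoc, ih, smul_mul_assoc, Matrix.mul_assoc, h5, mul_smul_comm, smul_smul, ← pow_succ,
          ← Matrix.mul_assoc]
    obtain ⟨ν, hν⟩ := (hR.pow p).scalar_of_one hw h3 hkp
    have h7 := h6 p
    rw [hν, mul_smul_comm, Matrix.mul_one, smul_mul_assoc, Matrix.one_mul, smul_smul] at h7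
    have hν0 : ν ≠ 0 := by
      rintro rfl
      have h8 := congrArg Matrix.det hν
      rw [zero_smul, Matrix.det_pow, Matrix.det_zero] at h8
      exact pow_ne_zero _ hdR h8
    have h9 := congrArg Matrix.det h7
    have h10 : ν • P = (l ^ p * ν) • P := h7
    have h11 : (ν - l ^ p * ν) • P = 0 := by rw [sub_smul, ← h10, sub_self]
    have hP0 : P ≠ 0 := fun h0 => hdP (by rw [h0, Matrix.det_zero])
    have h12 := (smul_eq_zero.1 h11).resolve_right hP0
    have h13 : ν * (1 - l ^ p) = 0 := by linear_combination h12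
    exact (sub_eq_zero.1 ((mul_eq_zero.1 h13).resolve_left hν0)).symm
  have hl1 : l = 1 := by
    have h6 : orderOf l ∣ 3 := orderOf_dvd_of_pow_eq_one hl3
    have h7 : orderOf l ∣ p := orderOf_dvd_of_pow_eq_one hlp
    have h8 := Nat.dvd_gcd h7 h6
    rw [hp, Nat.dvd_one, orderOf_eq_one_iff] at h8
    exact h8
  rw [h5, hl1, one_smul]

end okubo

/-- conjugation by `S` -/
theorem cj_mul {E : Type*} [Field E] {S S' A B : Matrix (Fin 3) (Fin 3) E} (h : S * S' = 1) :
    (S' * A * S) * (S' * B * S) = S' * (A * B) * S := by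
  calc (S' * A * S) * (S' * B * S) = S' * A * (S * S') * B * S := by simp only [Matrix.mul_assoc]
    _ = _ := by rw [h, Matrix.mul_one]; simp only [Matrix.mul_assoc]

theorem cj_pow {E : Type*} [Field E] {S S' A : Matrix (Fin 3) (Fin 3) E} (h : S * S' = 1) (h' : S' * S = 1) (n : ℕ) :
    (S' * A * S) ^ n = S' * A ^ n * S := by
  induction n with
  | zero => rw [pow_zero, pow_zero, Matrix.mul_one, h']
  | succ n ih => rw [pow_succ, pow_succ, ih, cj_mul h]

/-- **Box MIX** -/
theorem mixed {F : Type u} [Field F] [Finite F] (h3 : (3 : F) ≠ 0) {g k : V8 F ≃ₗ[F] V8 F} (hg : Ex g) (hk : Ex k)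
    {m p : ℕ} (hm : (m : F) ≠ 0) (_hm3 : m.Coprime 3) (hgm : g ^ m = 1) (hg1 : g ≠ 1) (hp : p.Prime)
    (hpF : (p : F) = 0) (hkp : k ^ p = 1) (hk1 : k ≠ 1) (hc : k * g = g * k) :
    ∃ v : V8 F, g v = v ∧ dia (tauB F) v v = 0 ∧ polar (plusForm 4 F) v (k v) ≠ 0 := by
  let i : F →+* AlgebraicClosure F := algebraMap F (AlgebraicClosure F)
  have h3E : (3 : AlgebraicClosure F) ≠ 0 := by
    intro h0
    apply h3
    apply i.injective
    rw [map_ofNat, map_zero]
    exact h0
  obtain ⟨w, hw⟩ : ∃ w : AlgebraicClosure F, w ^ 2 + w + 1 = 0 := by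
    obtain ⟨w, hw⟩ := IsAlgClosed.exists_root
      (Polynomial.X ^ 2 + Polynomial.X + 1 : Polynomial (AlgebraicClosure F)) (by
        have : (Polynomial.X ^ 2 + Polynomial.X + 1 : Polynomial (AlgebraicClosure F)).degree = 2 := by
          compute_degree!
        rw [this]
        exact two_ne_zero)
    exact ⟨w, by simpa using hw⟩
  have hpE : (p : AlgebraicClosure F) = 0 := by
    have := congrArg i hpF
    rwa [map_natCast, map_zero] at this
  have hp3 : p.Coprime 3 := by
    rw [Nat.coprime_primes hp Nat.prime_three]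
    rintro rfl
    exact h3 (by exact_mod_cast hpF)
  obtain ⟨P, P', hP⟩ := H237.RC.SN.exists_conj i hw h3E hg
  obtain ⟨R, R', hR⟩ := H237.RC.SN.exists_conj i hw h3E hk
  have hP : IsC i w g P P' := hP
  have hR : IsC i w k R R' := hR
  have hPR := IsC.commute hw h3E hP hR hc hp3 hkp
  obtain ⟨ν, hν⟩ := (hR.pow p).scalar_of_one hw h3E hkp
  have hns : ¬ ∃ c : AlgebraicClosure F, P = c • (1 : Matrix (Fin 3) (Fin 3) (AlgebraicClosure F)) := fun h =>
    hg1 (hP.one_of_scalar hw h3E h)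
  have hns' : ¬ ∃ c : AlgebraicClosure F, R = c • (1 : Matrix (Fin 3) (Fin 3) (AlgebraicClosure F)) := fun h =>
    hk1 (hR.one_of_scalar hw h3E h)
  rcases H188.RC.OkSS.semis_P hw h3E hg hm hgm hP.1 hP.2.1 hP.2.2 with ⟨v, v', hv, hv', hvv, hvv', hpol⟩ | hred
  · by_contra hcon
    push Not at hcon
    have t1 := hcon v hv hvv
    have t2 := hcon v' hv' hvv'
    have hV := Phi_sq i hw h3E hvv
    have hW := Phi_sq i hw h3E hvv'
    have hV0 : Phi i w v ≠ 0 := by
      intro h0
      have h1 : v = 0 := Phi_injective i hw h3E (by rw [h0, Phi_zero])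
      rw [h1] at hpol
      simp [QuadraticMap.polar] at hpol
    have hVW : Phi i w v * Phi i w v' * Phi i w v = -Phi i w v := by
      rw [Phi_mul_mul i hw h3E hvv, hpol, map_one, neg_one_smul]
    obtain ⟨S, S', hS, hS', e1, e2⟩ := exists_nf hV hW hVW hV0
    have tr : ∀ X : Matrix (Fin 3) (Fin 3) (AlgebraicClosure F), trace (X * (R * X * R')) = 0 →
        trace ((S' * X * S) * ((S' * R * S) * (S' * X * S) * (S' * R' * S))) = 0 := by
      intro X hX
      rw [cj_mul hS, cj_mul hS, cj_mul hS, Matrix.trace_mul_comm, ← Matrix.mul_assoc, hS, Matrix.one_mul]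
      exact hX
    have T1 : trace (Phi i w v * (R * Phi i w v * R')) = 0 := by
      rw [← hR.2.2, trace_Phi_mul i hw h3E, t1, map_zero, neg_zero]
    have T2 : trace (Phi i w v' * (R * Phi i w v' * R')) = 0 := by
      rw [← hR.2.2, trace_Phi_mul i hw h3E, t2, map_zero, neg_zero]
    have T1' := tr _ T1
    have T2' := tr _ T2
    have c1 := congrArg (fun X => S' * X * S) (hP.comm hv)
    have c2 := congrArg (fun X => S' * X * S) (hP.comm hv')
    have c3 := congrArg (fun X => S' * X * S) hPR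
    have c4 := congrArg (fun X => S' * X * S) hR.1
    have c5 := congrArg (fun X => S' * X * S) hν
    beta_reduce at c1 c2 c3 c4 c5
    rw [← cj_mul hS, ← cj_mul hS, e1] at c1
    rw [← cj_mul hS, ← cj_mul hS, e2] at c2
    rw [← cj_mul hS, ← cj_mul hS] at c3
    rw [← cj_mul hS, Matrix.mul_one, hS'] at c4
    rw [← cj_pow hS hS', mul_smul_comm, smul_mul_assoc, Matrix.mul_one, hS'] at c5
    rw [e1] at T1'
    rw [e2] at T2'
    obtain ⟨c, hc⟩ := core hp hpE c1 c2 (by
      rintro ⟨c, hc⟩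
      apply hns
      refine ⟨c, ?_⟩
      have := congrArg (fun X => S * X * S') hc
      beta_reduce at this
      rw [mul_smul_comm, smul_mul_assoc, Matrix.mul_one, hS] at this
      rw [← this]
      calc P = (S * S') * P * (S * S') := by rw [hS, Matrix.one_mul, Matrix.mul_one]
        _ = _ := by simp only [Matrix.mul_assoc]) c3 c4 c5 T1' T2'
    apply hns'
    refine ⟨c, ?_⟩
    have := congrArg (fun X => S * X * S') hc
    beta_reduce at this
    rw [mul_smul_comm, smul_mul_assoc, Matrix.mul_one, hS] at this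
    rw [← this]
    calc R = (S * S') * R * (S * S') := by rw [hS, Matrix.one_mul, Matrix.mul_one]
      _ = _ := by simp only [Matrix.mul_assoc]
  · exfalso
    obtain ⟨c, hc⟩ := IsAlgClosed.exists_pow_nat_eq ν hp.pos
    have hch : CharP (AlgebraicClosure F) p := by
      obtain ⟨q, hq⟩ := CharP.exists (AlgebraicClosure F)
      have h4 := (CharP.cast_eq_zero_iff (AlgebraicClosure F) q p).1 hpE
      rcases (Nat.dvd_prime hp).1 h4 with h5 | h5
      · exfalso
        rw [h5] at hq
        have h6 : ((1 : ℕ) : AlgebraicClosure F) = 0 := CharP.cast_eq_zero _ 1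
        rw [Nat.cast_one] at h6
        exact one_ne_zero h6
      · rw [h5] at hq; exact hq
    have hpf : Fact p.Prime := ⟨hp⟩
    have hN : (R - c • (1 : Matrix (Fin 3) (Fin 3) (AlgebraicClosure F))) ^ p = 0 := by
      have h4 : Commute R (c • (1 : Matrix (Fin 3) (Fin 3) (AlgebraicClosure F))) := by
        change R * _ = _ * R
        rw [mul_smul_comm, smul_mul_assoc, Matrix.mul_one, Matrix.one_mul]
      rw [sub_pow_char_of_commute p h4, hν, smul_pow, one_pow, hc, sub_self]
    have hcom : ∀ n : ℕ, (R - c • (1 : Matrix (Fin 3) (Fin 3) (AlgebraicClosure F))) ^ n * P =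
        P * (R - c • (1 : Matrix (Fin 3) (Fin 3) (AlgebraicClosure F))) ^ n := by
      intro n
      have h4 : Commute (R - c • (1 : Matrix (Fin 3) (Fin 3) (AlgebraicClosure F))) P := by
        change (R - _) * P = P * (R - _)
        rw [Matrix.sub_mul, Matrix.mul_sub, hPR, smul_mul_assoc, mul_smul_comm, Matrix.one_mul, Matrix.mul_one]
      exact (h4.pow_left n).eq
    have key : ∀ s : ℕ, (R - c • (1 : Matrix (Fin 3) (Fin 3) (AlgebraicClosure F))) ^ (2 ^ s) = 0 →
        R - c • (1 : Matrix (Fin 3) (Fin 3) (AlgebraicClosure F)) = 0 := by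
      intro s
      induction s with
      | zero => intro h; rwa [pow_zero, pow_one] at h
      | succ s ih =>
        intro h
        apply ih
        apply hred _ (hcom _)
        rw [← pow_two, ← pow_mul, ← pow_succ, h]
    have h4 := key p (by
      rw [← Nat.sub_add_cancel (Nat.lt_two_pow_self (n := p)).le, pow_add, hN, Matrix.mul_zero])
    exact hns' ⟨c, sub_eq_zero.1 h4⟩

end Cfsg.Agent.H202.Tri
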